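import Cfsg.Agent.SpSixTwo.Data
import Cfsg.Agent.SpTwo.Transpositions
import Cfsg.Agent.Classical.Symp.Matrix

/-!
The double cover of the symplectic group of degree six over two elements, generated by seven lifted
transvections acting on 240 points.
-/

set_option autoImplicit false
set_option linter.style.haveILetI false
set_option linter.unusedSectionVars false
set_option maxRecDepth 100000
set_option maxHeartbeats 2000000
set_option Elab.async false

noncomputable section

namespace Cfsg.Lib.SpSixTwo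

open Matrix Cfsg.Lib.PermCert Cfsg.Lib.SpTwo Cfsg.Lib.RootSub
open scoped commutatorElement

/-- The symplectic group. -/
abbrev Sp : Type := ↥(Matrix.symplecticGroup (Fin 3) (ZMod 2))

/-- The vectors. -/
abbrev Vec : Type := Fin 3 ⊕ Fin 3 → ZMod 2

/-- The vector of a code. -/
def vec (a : ℕ) : Vec :=
  Sum.elim (fun i => (((a / 2 ^ (i : ℕ)) % 2 : ℕ) : ZMod 2)) fun i => (((a / 2 ^ (3 + (i : ℕ))) % 2 : ℕ) : ZMod 2)

/-- The code of a vector. -/
def code (v : Vec) : ℕ :=
  (v (Sum.inl 0)).val + 2 * (v (Sum.inl 1)).val + 4 * (v (Sum.inl 2)).val + 8 * (v (Sum.inr 0)).val +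
    16 * (v (Sum.inr 1)).val + 32 * (v (Sum.inr 2)).val

theorem code_lt (v : Vec) : code v < 64 := by
  have h : ∀ i, (v i).val < 2 := fun i => ZMod.val_lt (v i)
  have := h (Sum.inl 0); have := h (Sum.inl 1); have := h (Sum.inl 2)
  have := h (Sum.inr 0); have := h (Sum.inr 1); have := h (Sum.inr 2)
  unfold code; omega

theorem code_vec : ∀ a ∈ List.range 64, code (vec a) = a := by decide +kernel

theorem vec_code (v : Vec) : vec (code v) = v := by
  have key : ∀ x : Fin 64, ∀ i : Fin 3, ∀ b : Bool,
      vec x (bif b then Sum.inl i else Sum.inr i) =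
        ((((x : ℕ) / 2 ^ ((bif b then 0 else 3) + (i : ℕ))) % 2 : ℕ) : ZMod 2) := by
    intro x i b; cases b <;> simp [vec]
  have hval : ∀ i, ((v i).val : ZMod 2) = v i := fun i => ZMod.natCast_zmod_val (v i)
  have h : ∀ i, (v i).val < 2 := fun i => ZMod.val_lt (v i)
  have := h (Sum.inl 0); have := h (Sum.inl 1); have := h (Sum.inl 2)
  have := h (Sum.inr 0); have := h (Sum.inr 1); have := h (Sum.inr 2)
  funext j
  rw [← hval j]
  rcases j with i | i <;> fin_cases i <;> simp only [vec, Sum.elim_inl, Sum.elim_inr] <;>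
    congr 1 <;> simp [code] <;> omega

/-- The action of a symplectic matrix on codes. -/
def actV (M : Sp) (a : ℕ) : ℕ := code (spCoe 3 _ M *ᵥ vec a)

theorem actV_lt (M : Sp) (a : ℕ) : actV M a < 64 := code_lt _

theorem actV_mul (M M' : Sp) (a : ℕ) : actV (M * M') a = actV M (actV M' a) := by
  simp [actV, vec_code, Matrix.mulVec_mulVec]

theorem actV_one {a : ℕ} (ha : a < 64) : actV 1 a = a := by
  simp [actV, code_vec a (List.mem_range.2 ha)]

/-- The point 120 steps further: the negative. -/
def negP : Equiv.Perm (Fin 240) :=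
  Function.Involutive.toPerm (fun x => ⟨((x : ℕ) + 120) % 240, Nat.mod_lt _ (by norm_num)⟩) fun x => by
    apply Fin.ext
    have := x.2
    show (((x : ℕ) + 120) % 240 + 120) % 240 = x
    omega

/-- The negative, when asked. -/
def flipP (b : Bool) (x : Fin 240) : Fin 240 := bif b then negP x else x

theorem negP_negP (x : Fin 240) : negP (negP x) = x :=
  Equiv.ext_iff.1 (show negP * negP = 1 from Function.Involutive.toPerm_involutive _ |> fun h => Equiv.ext h) x

theorem negP_ne (x : Fin 240) : negP x ≠ x := by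
  intro h
  have h' : ((x : ℕ) + 120) % 240 = x := congrArg Fin.val h
  omega

theorem flipP_flipP (a b : Bool) (x : Fin 240) : flipP a (flipP b x) = flipP (a ^^ b) x := by
  cases a <;> cases b <;> simp [flipP, negP_negP]

/-- A lifted transvection as a function. -/
def liftF (v : ℕ) (x : Fin 240) : Fin 240 :=
  ⟨ap (liftTab.getD v 0) x % 240, Nat.mod_lt _ (by norm_num)⟩

/-- A pair of a permutation and a matrix compatible with negation and with the lifted transvections. -/
def Compat (h : Equiv.Perm (Fin 240)) (M : Sp) : Prop :=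
  (∀ x, h (negP x) = negP (h x)) ∧
    ∀ v < 64, ∃ b, ∀ x, h (liftF v x) = flipP b (liftF (actV M v) (h x))

theorem Compat.flip {h : Equiv.Perm (Fin 240)} {M : Sp} (c : Compat h M) (b : Bool) (x : Fin 240) :
    h (flipP b x) = flipP b (h x) := by
  cases b
  · rfl
  · exact c.1 x

theorem Compat.one : Compat 1 1 := ⟨fun _ => rfl, fun v hv => ⟨false, fun x => by simp [flipP, actV_one hv]⟩⟩

theorem Compat.mul {h h' : Equiv.Perm (Fin 240)} {M M' : Sp} (c : Compat h M) (c' : Compat h' M') :
    Compat (h * h') (M * M') := by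
  refine ⟨fun x => by simp [c'.1, c.1], fun v hv => ?_⟩
  obtain ⟨b', e'⟩ := c'.2 v hv
  obtain ⟨b, e⟩ := c.2 (actV M' v) (actV_lt _ _)
  refine ⟨b' ^^ b, fun x => ?_⟩
  rw [Equiv.Perm.mul_apply, Equiv.Perm.mul_apply, e', c.flip, e, flipP_flipP, actV_mul]

theorem Compat.inv {h : Equiv.Perm (Fin 240)} {M : Sp} (c : Compat h M) : Compat h⁻¹ M⁻¹ := by
  refine ⟨fun x => h.injective ?_, fun v hv => ?_⟩
  · rw [c.1]; simp
  obtain ⟨b, e⟩ := c.2 (actV M⁻¹ v) (actV_lt _ _)
  have hv' : actV M (actV M⁻¹ v) = v := by rw [← actV_mul, mul_inv_cancel, actV_one hv]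
  refine ⟨b, fun x => h.injective ?_⟩
  rw [c.flip, e, hv']
  simp [flipP_flipP]
  rfl

/-- The transvection of a generator. -/
def genT (c : Fin 7) : Sp := tv (vec (centres.getD c 0))

/-- The permutation of a generator. -/
def genP (c : Fin 7) : Equiv.Perm (Fin 240) := perm 240 (ptTab.getD c (0, 0))

/-- The image of a vector code under a generator. -/
def mt (c : Fin 7) (a : ℕ) : ℕ := ap (vecTab.getD c 0) a

theorem mt_ok : ∀ c : Fin 7, ∀ a ∈ List.range 64,
    code (vec a + ((Matrix.J (Fin 3) (ZMod 2) *ᵥ vec (centres.getD c 0)) ⬝ᵥ vec a) • vec (centres.getD c 0)) =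
      mt c a := by
  decide +kernel

theorem actV_genT (c : Fin 7) {a : ℕ} (ha : a < 64) : actV (genT c) a = mt c a := by
  rw [actV, genT, tv_apply]
  exact mt_ok c a (List.mem_range.2 ha)

/-- The compatibility check of a generator. -/
def genCompatOK (c : Fin 7) : Bool :=
  let p := (ptTab.getD c (0, 0)).1
  valid 240 (ptTab.getD c (0, 0)) &&
    ((List.range 240).all fun x => ap p ((x + 120) % 240) == (ap p x + 120) % 240) &&
    ((List.range 240).all fun x => ap (liftTab.getD (centres.getD c 0) 0) x % 240 == ap p x) &&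
    (List.range 64).all fun v => [0, 120].any fun k => (List.range 240).all fun x =>
      ap p (ap (liftTab.getD v 0) x % 240) == (ap (liftTab.getD (mt c v) 0) (ap p x) % 240 + k) % 240

theorem genCompat_ok : ∀ c : Fin 7, genCompatOK c = true := by decide +kernel

theorem gen_valid (c : Fin 7) : valid 240 (ptTab.getD c (0, 0)) = true := by
  have h := genCompat_ok c
  simp only [genCompatOK, Bool.and_eq_true] at h
  exact h.1.1.1

theorem liftF_centre (c : Fin 7) (x : Fin 240) : liftF (centres.getD c 0) x = genP c x := by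
  have h := genCompat_ok c
  simp only [genCompatOK, Bool.and_eq_true, List.all_eq_true, beq_iff_eq, List.mem_range] at h
  refine Fin.ext ?_
  show ap (liftTab.getD (centres.getD c 0) 0) x % 240 = _
  rw [h.1.2 x x.2, genP, perm_apply (gen_valid c)]

theorem compat_gen (c : Fin 7) : Compat (genP c) (genT c) := by
  have h := genCompat_ok c
  simp only [genCompatOK, Bool.and_eq_true, List.all_eq_true, List.any_eq_true, beq_iff_eq, List.mem_range,
    List.mem_cons, List.not_mem_nil, or_false] at h
  obtain ⟨⟨⟨-, hneg⟩, -⟩, hlift⟩ := h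
  refine ⟨fun x => Fin.ext ?_, fun v hv => ?_⟩
  · show (genP c (negP x) : ℕ) = ((genP c x : ℕ) + 120) % 240
    rw [genP, perm_apply (gen_valid c), perm_apply (gen_valid c)]
    exact hneg x x.2
  obtain ⟨k, hk, hall⟩ := hlift v hv
  refine ⟨k == 120, fun x => Fin.ext ?_⟩
  have e := hall x x.2
  rw [actV_genT c hv]
  have hp : ∀ y : Fin 240, (genP c y : ℕ) = ap (ptTab.getD c (0, 0)).1 y := fun y =>
    perm_apply (gen_valid c) y
  rcases hk with rfl | rfl
  · show (genP c (liftF v x) : ℕ) = ap (liftTab.getD (mt c v) 0) (genP c x) % 240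
    rw [hp, hp]
    rw [Nat.add_zero, Nat.mod_mod] at e
    exact e
  · show (genP c (liftF v x) : ℕ) = (ap (liftTab.getD (mt c v) 0) (genP c x) % 240 + 120) % 240
    rw [hp, hp]
    exact e

/-- The cover. -/
def cover : Subgroup (Equiv.Perm (Fin 240) × Sp) :=
  Subgroup.closure (Set.range fun c : Fin 7 => (genP c, genT c))

theorem compat_cover (g : cover) : Compat g.1.1 g.1.2 := by
  obtain ⟨g, hg⟩ := g
  show Compat g.1 g.2
  induction hg using Subgroup.closure_induction with
  | mem x hx => obtain ⟨c, rfl⟩ := hx; exact compat_gen c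
  | one => exact Compat.one
  | mul x y _ _ hx hy => exact hx.mul hy
  | inv x _ hx => exact hx.inv

/-- A generator of the cover. -/
def gC (c : ℕ) : cover :=
  ⟨(genP ⟨c % 7, Nat.mod_lt _ (by omega)⟩, genT ⟨c % 7, Nat.mod_lt _ (by omega)⟩),
    Subgroup.subset_closure ⟨_, rfl⟩⟩

/-- The value of a word. -/
def el (w : List ℕ) : cover := (w.map gC).prod

@[simp] theorem el_nil : el [] = 1 := rfl

theorem el_cons (c : ℕ) (w : List ℕ) : el (c :: w) = gC c * el w := by simp [el]

theorem el_append (a b : List ℕ) : el (a ++ b) = el a * el b := by simp [el]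

/-- The projection. -/
def proj : cover →* Sp := (MonoidHom.snd _ _).comp cover.subtype

/-- A word on points. -/
def actP (w : List ℕ) (x : ℕ) : ℕ := w.foldr (fun c y => ap (ptTab.getD (c % 7) (0, 0)).1 y) x

/-- A word on vector codes. -/
def actC (w : List ℕ) (a : ℕ) : ℕ := w.foldr (fun c y => ap (vecTab.getD (c % 7) 0) y) a

theorem el_point (w : List ℕ) (x : Fin 240) : ((el w).1.1 x : ℕ) = actP w x := by
  induction w with
  | nil => rfl
  | cons c w ih =>
    rw [el_cons]
    show (genP ⟨c % 7, Nat.mod_lt _ (by omega)⟩ ((el w).1.1 x) : ℕ) = ap _ (actP w x)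
    rw [genP, perm_apply (gen_valid _), ih]

theorem el_vec (w : List ℕ) {a : ℕ} (ha : a < 64) : actV (proj (el w)) a = actC w a := by
  induction w with
  | nil => exact actV_one ha
  | cons c w ih =>
    rw [el_cons, map_mul, actV_mul, ih]
    show actV (genT ⟨c % 7, Nat.mod_lt _ (by omega)⟩) (actC w a) = ap _ (actC w a)
    rw [actV_genT _ (ih ▸ actV_lt _ _)]
    rfl

theorem unit_vec : ∀ j : Fin 3 ⊕ Fin 3, vec (Sum.elim (fun i : Fin 3 => 2 ^ (i : ℕ)) (fun i => 2 ^ (3 + (i : ℕ))) j) =
    Pi.single j 1 := by decide +kernel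

theorem sp_ext {M N : Sp} (h : ∀ i < 6, actV M (2 ^ i) = actV N (2 ^ i)) : M = N := by
  refine spCoe_injective 3 ?_
  refine Matrix.ext fun r s => ?_
  have hs : ∃ i < 6, Sum.elim (fun i : Fin 3 => 2 ^ (i : ℕ)) (fun i => 2 ^ (3 + (i : ℕ))) s = 2 ^ i := by
    rcases s with i | i
    · exact ⟨i, by omega, rfl⟩
    · exact ⟨3 + i, by omega, rfl⟩
  obtain ⟨i, hi, e⟩ := hs
  have h1 := congrArg vec (h i hi)
  rw [actV, actV, vec_code, vec_code, ← e, unit_vec] at h1
  simpa using congrFun h1 r

theorem pairs_ok : (∀ p ∈ List.range 120, actP (pairWords.getD p []) 0 % 120 = p) ∧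
    (∀ w ∈ fixWords, actP w 0 % 120 = 0) ∧
    ∀ q ∈ List.range 120, q = 0 ∨ ∃ w ∈ fixWords, actP w q % 120 ≠ q := by
  decide +kernel

/-- The parity of the letters selected by a mask. -/
def parity (m : ℕ) (w : List ℕ) : Bool := w.foldr (fun c b => b ^^ Nat.testBit m (c % 7)) false

theorem odd_ok : ∀ c : Fin 7, actP (oddWords.getD c []) 0 % 120 = 0 ∧
    ∀ m ∈ List.range 128, parity m (oddWords.getD c []) = Nat.testBit m c := by
  decide +kernel

theorem flipP_eq {x y : Fin 240} (h : (x : ℕ) % 120 = (y : ℕ) % 120) : ∃ b, x = flipP b y := by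
  by_cases e : x = y
  · exact ⟨false, e⟩
  · refine ⟨true, Fin.ext ?_⟩
    have hx := x.2
    have hy := y.2
    have hne : (x : ℕ) ≠ y := fun h' => e (Fin.ext h')
    show (x : ℕ) = ((y : ℕ) + 120) % 240
    omega

theorem mod_flipP (b : Bool) (x : Fin 240) : ((flipP b x : Fin 240) : ℕ) % 120 = (x : ℕ) % 120 := by
  cases b
  · rfl
  · show (((x : ℕ) + 120) % 240) % 120 = _
    omega

theorem flipP_inj {a b : Bool} {x : Fin 240} (h : flipP a x = flipP b x) : a = b := by
  cases a <;> cases b
  · rfl
  · exact absurd h.symm (negP_ne x)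
  · exact absurd h (negP_ne x)
  · rfl

theorem ker_cases {g : cover} (hg : proj g = 1) : g.1.1 = 1 ∨ g.1.1 = negP := by
  set h := g.1.1 with hh
  have hC : Compat h 1 := by
    have := compat_cover g
    rwa [show g.1.2 = 1 from hg, ← hh] at this
  have hb : ∀ c : Fin 7, ∃ b, ∀ x, h (genP c x) = flipP b (genP c (h x)) := by
    intro c
    have hlt : ∀ c : Fin 7, centres.getD c 0 < 64 := by decide
    obtain ⟨b, e⟩ := hC.2 _ (hlt c)
    refine ⟨b, fun x => ?_⟩
    have e' := e x
    rw [actV_one (hlt c), liftF_centre, liftF_centre] at e'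
    exact e'
  choose b hb using hb
  obtain ⟨m, hm, hmb⟩ : ∃ m < 128, ∀ c : Fin 7, Nat.testBit m c = b c := by
    have key : ∀ f : Fin 7 → Bool, ∃ m : Fin 128, ∀ c : Fin 7, Nat.testBit (m : ℕ) c = f c := by decide +kernel
    obtain ⟨m, hm⟩ := key b
    exact ⟨m, m.2, hm⟩
  have hw : ∀ (w : List ℕ) (x : Fin 240), h ((el w).1.1 x) = flipP (parity m w) ((el w).1.1 (h x)) := by
    intro w
    induction w with
    | nil => intro x; rfl
    | cons c w ih =>
      intro x
      set d : Fin 7 := ⟨c % 7, Nat.mod_lt _ (by omega)⟩ with hd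
      rw [el_cons]
      show h (genP d ((el w).1.1 x)) = flipP _ (genP d ((el w).1.1 (h x)))
      rw [hb, ih, (compat_gen d).flip, flipP_flipP, ← hmb d]
      congr 1
      show (Nat.testBit m (c % 7) ^^ parity m w) = (parity m w ^^ Nat.testBit m (c % 7))
      exact Bool.xor_comm _ _
  obtain ⟨htr, hfix, hsep⟩ := pairs_ok
  have h0 : (h 0 : ℕ) % 120 = 0 := by
    rcases hsep ((h 0 : ℕ) % 120) (List.mem_range.2 (Nat.mod_lt _ (by norm_num))) with e | ⟨w, hwm, e⟩
    · exact e
    · exfalso
      obtain ⟨a, ha⟩ := flipP_eq (x := h 0) (y := ⟨(h 0 : ℕ) % 120, by omega⟩) (Nat.mod_mod _ _).symm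
      obtain ⟨a', ha'⟩ := flipP_eq (x := (el w).1.1 0) (y := 0) (by rw [el_point]; exact hfix w hwm)
      have e1 := hw w 0
      rw [ha', hC.flip, ha, (compat_cover (el w)).flip] at e1
      have e2 := congrArg (fun z : Fin 240 => (z : ℕ) % 120) e1
      simp only [mod_flipP, el_point, Nat.mod_mod] at e2
      exact e e2.symm
  obtain ⟨s, hs⟩ := flipP_eq (x := h 0) (y := 0) h0
  have hbf : ∀ c, b c = false := by
    intro c
    obtain ⟨h1, h2⟩ := odd_ok c
    obtain ⟨a', ha'⟩ := flipP_eq (x := (el (oddWords.getD c [])).1.1 0) (y := 0) (by rw [el_point]; exact h1)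
    have e1 := hw (oddWords.getD c []) 0
    rw [ha', hC.flip, hs, (compat_cover (el _)).flip, ha', flipP_flipP, flipP_flipP, flipP_flipP,
      h2 m (List.mem_range.2 hm), hmb c] at e1
    have := flipP_inj e1
    revert this
    cases b c <;> cases s <;> cases a' <;> simp
  have hpar : ∀ w, parity m w = false := fun w => by
    induction w with
    | nil => rfl
    | cons c w ih =>
      show (parity m w ^^ Nat.testBit m (c % 7)) = false
      rw [ih, show Nat.testBit m (c % 7) = _ from hmb ⟨c % 7, Nat.mod_lt _ (by omega)⟩, hbf]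
      rfl
  have hx : ∀ x, h x = flipP s x := by
    intro x
    obtain ⟨d, hd⟩ := flipP_eq (x := x) (y := (el (pairWords.getD ((x : ℕ) % 120) [])).1.1 0) (by
      rw [el_point]; exact (htr _ (List.mem_range.2 (Nat.mod_lt _ (by norm_num)))).symm)
    rw [hd, hC.flip, hw, hpar, hs, (compat_cover (el _)).flip, flipP_flipP, flipP_flipP, flipP_flipP]
    congr 1
    cases d <;> cases s <;> rfl
  cases s
  · exact Or.inl (Equiv.ext hx)
  · exact Or.inr (Equiv.ext hx)

/-- The packed key of a word. -/
def key (w : List ℕ) : ℕ :=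
  actP w 0 + 256 * (actC w 1 + 64 * (actC w 2 + 64 * (actC w 4 + 64 * (actC w 8 + 64 * (actC w 16 + 64 * actC w 32)))))

theorem el_eq_iff {v w : List ℕ} : el v = el w ↔ key v = key w := by
  have hc : ∀ (u : List ℕ) {a : ℕ}, a < 64 → actC u a < 64 := fun u a ha => el_vec u ha ▸ actV_lt _ _
  have hP : ∀ u, actP u 0 < 240 := fun u => (el_point u 0) ▸ Fin.isLt _
  constructor
  · intro h
    have e0 : actP v 0 = actP w 0 := by
      have := (el_point v 0).symm.trans ((congrArg (fun g : cover => ((g.1.1 0 : Fin 240) : ℕ)) h).trans (el_point w 0))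
      simpa using this
    have e1 : ∀ a < 64, actC v a = actC w a := fun a ha => by rw [← el_vec v ha, ← el_vec w ha, h]
    simp only [key, e0, e1 1 (by norm_num), e1 2 (by norm_num), e1 4 (by norm_num), e1 8 (by norm_num),
      e1 16 (by norm_num), e1 32 (by norm_num)]
  · intro h
    simp only [key] at h
    have := hP v; have := hP w
    have := hc v (show 1 < 64 by norm_num); have := hc w (show 1 < 64 by norm_num)
    have := hc v (show 2 < 64 by norm_num); have := hc w (show 2 < 64 by norm_num)
    have := hc v (show 4 < 64 by norm_num); have := hc w (show 4 < 64 by norm_num)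
    have := hc v (show 8 < 64 by norm_num); have := hc w (show 8 < 64 by norm_num)
    have := hc v (show 16 < 64 by norm_num); have := hc w (show 16 < 64 by norm_num)
    have := hc v (show 32 < 64 by norm_num); have := hc w (show 32 < 64 by norm_num)
    obtain ⟨k0, k1, k2, k4, k8, k16, k32⟩ : actP v 0 = actP w 0 ∧ actC v 1 = actC w 1 ∧ actC v 2 = actC w 2 ∧
        actC v 4 = actC w 4 ∧ actC v 8 = actC w 8 ∧ actC v 16 = actC w 16 ∧ actC v 32 = actC w 32 := by
      refine ⟨?_, ?_, ?_, ?_, ?_, ?_, ?_⟩ <;> omega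
    have hp : proj (el v) = proj (el w) := sp_ext fun i hi => by
      have hi' : 2 ^ i < 64 := Nat.pow_lt_pow_right (by norm_num) hi
      rw [el_vec v hi', el_vec w hi']
      interval_cases i <;> assumption
    have hk : proj ((el v)⁻¹ * el w) = 1 := by rw [map_mul, map_inv, hp, inv_mul_cancel]
    have h0 : ((el v)⁻¹ * el w).1.1 0 = 0 := by
      show (el v).1.1⁻¹ ((el w).1.1 0) = 0
      rw [Equiv.Perm.inv_eq_iff_eq]
      exact Fin.ext (by rw [el_point, el_point]; exact k0.symm)
    rcases ker_cases hk with e | e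
    · rw [← inv_mul_eq_one]
      exact Subtype.ext (Prod.ext e hk)
    · rw [e] at h0
      exact absurd h0 (negP_ne 0)

theorem vecs_ok : ∀ a ∈ List.range 64, a = 0 ∨ actC (vecWords.getD a []) (centres.getD 0 0) = a := by
  decide +kernel

theorem proj_surjective : Function.Surjective proj := by
  have hall : ∀ a ∈ List.range 64, a ≠ 0 → tv (vec a) ∈ proj.range := by
    intro a ha h0
    have e := (vecs_ok a ha).resolve_left h0
    rw [← el_vec _ (show centres.getD 0 0 < 64 by decide)] at e
    refine ⟨el (vecWords.getD a []) * gC 0 * (el (vecWords.getD a []))⁻¹, ?_⟩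
    rw [map_mul, map_mul, map_inv]
    show proj (el (vecWords.getD a [])) * tv (vec (centres.getD 0 0)) * (proj (el (vecWords.getD a [])))⁻¹ = _
    rw [tv_conj]
    conv_rhs => rw [← e, actV, vec_code]
  rw [← MonoidHom.range_eq_top, eq_top_iff, ← Cfsg.Lib.Classical.closure_sympTransvection_eq_top 3,
    Subgroup.closure_le]
  rintro A ⟨v, c, hA⟩
  have hcase : c = 0 ∨ c = 1 := (by decide : ∀ d : ZMod 2, d = 0 ∨ d = 1) c
  have hA0 : c = 0 ∨ code v = 0 → A = 1 := by
    intro h
    refine spCoe_injective 3 ?_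
    rw [map_one]
    refine (Matrix.toLin'.injective (LinearMap.ext fun x => ?_))
    simp only [Matrix.toLin'_apply]
    rw [show spCoe 3 (ZMod 2) A = _ from hA, Cfsg.Lib.Classical.sympTransvection_mulVec, one_mulVec]
    rcases h with rfl | h
    · simp
    · rw [← vec_code v, h, show vec 0 = 0 by decide +kernel]; simp
  by_cases h : c = 0 ∨ code v = 0
  · rw [hA0 h]; exact one_mem proj.range
  · push Not at h
    have hc1 : c = 1 := hcase.resolve_left h.1
    have e : A = tv (vec (code v)) := by
      refine spCoe_injective 3 ?_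
      rw [vec_code]
      refine (Matrix.toLin'.injective (LinearMap.ext fun x => ?_))
      simp only [Matrix.toLin'_apply]
      rw [tv_apply, show spCoe 3 (ZMod 2) A = _ from hA, Cfsg.Lib.Classical.sympTransvection_mulVec, hc1, one_mul,
        Cfsg.Lib.Classical.sympBilin_apply, dotProduct_comm]
    rw [e]
    exact hall _ (List.mem_range.2 (code_lt v)) h.2

theorem neg_word : key [0, 0] ≠ key [] ∧ actC [0, 0] 1 = 1 ∧ actC [0, 0] 2 = 2 ∧ actC [0, 0] 4 = 4 ∧
    actC [0, 0] 8 = 8 ∧ actC [0, 0] 16 = 16 ∧ actC [0, 0] 32 = 32 := by decide +kernel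

/-- Minus one. -/
def negC : cover := el [0, 0]

theorem negC_ne_one : negC ≠ 1 := fun h => neg_word.1 (el_eq_iff.1 (h.trans el_nil.symm))

theorem proj_negC : proj negC = 1 := by
  refine sp_ext fun i hi => ?_
  have hi' : 2 ^ i < 64 := Nat.pow_lt_pow_right (by norm_num) hi
  rw [negC, el_vec _ hi', actV_one hi']
  obtain ⟨-, h1, h2, h4, h8, h16, h32⟩ := neg_word
  interval_cases i <;> assumption

theorem ker_eq {g : cover} : g ∈ proj.ker ↔ g = 1 ∨ g = negC := by
  constructor
  · intro hg
    have hn : negC.1.1 = negP := (ker_cases proj_negC).resolve_left fun e =>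
      negC_ne_one (Subtype.ext (Prod.ext e proj_negC))
    rcases ker_cases hg with e | e
    · exact Or.inl (Subtype.ext (Prod.ext e hg))
    · exact Or.inr (Subtype.ext (Prod.ext (e.trans hn.symm) ((show g.1.2 = 1 from hg).trans proj_negC.symm)))
  · rintro (rfl | rfl)
    exacts [one_mem _, proj_negC]

theorem ker_central : proj.ker ≤ Subgroup.center cover := by
  intro z hz
  refine Subgroup.mem_center_iff.2 fun g => ?_
  have hz2 : z.1.2 = 1 := hz
  refine Subtype.ext (Prod.ext (Equiv.ext fun x => ?_) ?_)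
  · show g.1.1 (z.1.1 x) = z.1.1 (g.1.1 x)
    rcases ker_cases hz with e | e <;> rw [e]
    · rfl
    · exact (compat_cover g).1 x
  · show g.1.2 * z.1.2 = z.1.2 * g.1.2
    rw [hz2, one_mul, mul_one]

theorem card_ker : Nat.card proj.ker = 2 := by
  have e : (proj.ker : Set cover) = {1, negC} := by
    ext g; simp only [SetLike.mem_coe, ker_eq, Set.mem_insert_iff, Set.mem_singleton_iff]
  rw [← SetLike.coe_sort_coe, Nat.card_coe_set_eq, e, Set.ncard_pair negC_ne_one.symm]

theorem card_Sp : Nat.card Sp = 1451520 := by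
  rw [Cfsg.Lib.Classical.card_symplecticGroup, Nat.card_zmod]
  decide

theorem card_cover : Nat.card cover = 2903040 := by
  have h := Subgroup.card_eq_card_quotient_mul_card_subgroup proj.ker
  rw [Nat.card_congr (QuotientGroup.quotientKerEquivOfSurjective proj proj_surjective).toEquiv, card_Sp,
    card_ker] at h
  exact h

theorem perfect_ok : key (commU ++ commW) = key ([0] ++ commW ++ commU) ∧
    key [antiPair.1, antiPair.2] = key ([0, 0] ++ [antiPair.2, antiPair.1]) ∧
    ∀ c : Fin 7, key ([(c : ℕ)] ++ (genConj.getD c ([], false)).1) =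
      key ((if (genConj.getD c ([], false)).2 then [0, 0] else []) ++ (genConj.getD c ([], false)).1 ++ [0]) := by
  decide +kernel

theorem cover_perfect : commutator cover = ⊤ := by
  obtain ⟨h0, hz, hc⟩ := perfect_ok
  simp only [← el_eq_iff, el_append] at h0 hz hc
  have mem : ∀ a b : cover, ⁅a, b⁆ ∈ commutator cover := fun a b =>
    Subgroup.commutator_mem_commutator (Subgroup.mem_top _) (Subgroup.mem_top _)
  have m0 : el [0] ∈ commutator cover := by
    rw [show el [0] = ⁅el commU, el commW⁆ by rw [commutatorElement_def, h0]; group]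
    exact mem _ _
  have mz : el [0, 0] ∈ commutator cover := by
    have e : el [antiPair.1, antiPair.2] = el [antiPair.1] * el [antiPair.2] := (el_append [_] [_])
    have e' : el [antiPair.2, antiPair.1] = el [antiPair.2] * el [antiPair.1] := (el_append [_] [_])
    rw [show el [0, 0] = ⁅el [antiPair.1], el [antiPair.2]⁆ by
      rw [commutatorElement_def, ← e, hz, e']; group]
    exact mem _ _
  have hgen : ∀ c : Fin 7, el [(c : ℕ)] ∈ commutator cover := by
    intro c
    have h := hc c
    set k := el (genConj.getD c ([], false)).1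
    rw [← eq_mul_inv_iff_mul_eq] at h
    rw [h, mul_assoc _ k (el [0]), mul_assoc _ (k * el [0]) k⁻¹]
    refine mul_mem ?_ (Subgroup.Normal.conj_mem inferInstance _ m0 _)
    split
    · exact mz
    · exact one_mem _
  refine eq_top_iff.2 fun g _ => ?_
  obtain ⟨g, hg⟩ := g
  suffices ∀ (x : Equiv.Perm (Fin 240) × Sp) (hx : x ∈ cover), (⟨x, hx⟩ : cover) ∈ commutator cover from
    this g hg
  intro x hx
  induction hx using Subgroup.closure_induction with
  | mem y hy =>
    obtain ⟨c, rfl⟩ := hy
    have e : el [(c : ℕ)] = ⟨(genP c, genT c), Subgroup.subset_closure ⟨c, rfl⟩⟩ := by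
      rw [el_cons, el_nil, mul_one]
      refine Subtype.ext ?_
      show (genP ⟨(c : ℕ) % 7, _⟩, genT ⟨(c : ℕ) % 7, _⟩) = (genP c, genT c)
      simp [Nat.mod_eq_of_lt c.2]
    exact e ▸ hgen c
  | one => exact one_mem _
  | mul a b ha hb iha ihb => exact mul_mem iha ihb
  | inv a ha iha => exact inv_mem iha

end Cfsg.Lib.SpSixTwo

end
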