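import Cfsg.Agent.SpSixTwo.Cover
import Cfsg.Agent.Schur.WreathThree
import Cfsg.Agent.Schur.CollectCert
import Cfsg.Agent.Schur.UniversalCover
import Cfsg.Prelude.Def_Classical

/-!
The multiplier of the symplectic group of degree six over two elements has order two.
-/

set_option autoImplicit false
set_option linter.style.haveILetI false
set_option linter.unusedSectionVars false
set_option maxRecDepth 100000
set_option maxHeartbeats 2000000
set_option Elab.async false

noncomputable section

namespace Cfsg.Lib.SpSixTwo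

open Cfsg.Lib.Schur (PcCert wordVal)
open scoped commutatorElement Pointwise

universe u

/-- Subgroups with a polycyclic set of rules are small. -/
theorem card_closure_le {G : Type*} [Group G] [Finite G] (c : PcCert) (x : ℕ → G)
    (hshape : ∀ j < c.n, ∀ i ≤ j, c.shapeOK j i = true)
    (hrules : ∀ j < c.n, ∀ i ≤ j, x j * x i = wordVal x (c.tail j i)) :
    ∀ d k, k + d = c.n → Nat.card (Subgroup.closure (x '' {i | k ≤ i ∧ i < c.n})) ≤ 2 ^ d := by
  intro d
  induction d with
  | zero =>
    intro k hk
    have e : x '' {i | k ≤ i ∧ i < c.n} = ∅ := by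
      ext g; simp only [Set.mem_image, Set.mem_setOf_eq, Set.mem_empty_iff_false, iff_false]
      rintro ⟨i, ⟨h1, h2⟩, -⟩; omega
    rw [e, Subgroup.closure_empty, Subgroup.card_bot]; norm_num
  | succ d ih =>
    intro k hk
    set H := Subgroup.closure (x '' {i | k + 1 ≤ i ∧ i < c.n}) with hH
    have hHc := ih (k + 1) (by omega)
    have hmem : ∀ i, k + 1 ≤ i → i < c.n → x i ∈ H := fun i h1 h2 => Subgroup.subset_closure ⟨i, ⟨h1, h2⟩, rfl⟩
    have hword : ∀ l : List ℕ, (∀ q ∈ l, k + 1 ≤ q ∧ q < c.n) → wordVal x l ∈ H := fun l hl =>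
      Subgroup.list_prod_mem _ fun z hz => by
        obtain ⟨q, hq, rfl⟩ := List.mem_map.mp hz
        exact hmem q (hl q hq).1 (hl q hq).2
    have hsq : x k * x k ∈ H := by
      rw [hrules k (by omega) k le_rfl]
      have h := hshape k (by omega) k le_rfl
      simp only [PcCert.shapeOK, beq_self_eq_true, cond_true, List.all_eq_true, Bool.and_eq_true, Nat.blt,
        Nat.ble_eq] at h
      exact hword _ fun q hq => ⟨(h q hq).1, (h q hq).2⟩
    have hconj : ∀ h ∈ H, (x k)⁻¹ * h * x k ∈ H := by
      intro h hh
      induction hh using Subgroup.closure_induction with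
      | mem y hy =>
        obtain ⟨j, ⟨hj1, hj2⟩, rfl⟩ := hy
        have hs := hshape j hj2 k (by omega)
        rw [mul_assoc, hrules j hj2 k (by omega)]
        have hne : (j == k) = false := by simp; omega
        simp only [PcCert.shapeOK, hne, cond_false] at hs
        revert hs
        generalize c.tail j k = l
        intro hs
        cases l with
        | nil => simp at hs
        | cons a t =>
          simp only [Bool.and_eq_true, beq_iff_eq, List.all_eq_true, Nat.blt, Nat.ble_eq] at hs
          rw [Cfsg.Lib.Schur.wordVal_cons, hs.1, inv_mul_cancel_left]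
          exact hword _ fun q hq => ⟨(hs.2 q hq).1, (hs.2 q hq).2⟩
      | one => simp
      | mul a b _ _ ha hb =>
        rw [show (x k)⁻¹ * (a * b) * x k = (x k)⁻¹ * a * x k * ((x k)⁻¹ * b * x k) by group]
        exact mul_mem ha hb
      | inv a _ ha =>
        rw [show (x k)⁻¹ * a⁻¹ * x k = ((x k)⁻¹ * a * x k)⁻¹ by group]
        exact inv_mem ha
    let S : Set G := (H : Set G) ∪ x k • (H : Set G)
    have hle : Subgroup.closure (x '' {i | k ≤ i ∧ i < c.n}) ≤ MulAction.stabilizer G S := by
      rw [Subgroup.closure_le]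
      rintro _ ⟨j, ⟨hj1, hj2⟩, rfl⟩
      refine MulAction.mem_stabilizer_iff.2 (Set.eq_of_subset_of_ncard_le ?_ ?_ (Set.toFinite _))
      · rintro _ ⟨s, hs, rfl⟩
        show x j * s ∈ S
        rcases hs with hs | ⟨h, hh, rfl⟩
        · rcases eq_or_lt_of_le hj1 with rfl | hlt
          · exact Or.inr ⟨s, hs, rfl⟩
          · exact Or.inl (mul_mem (hmem j hlt hj2) hs)
        · rcases eq_or_lt_of_le hj1 with rfl | hlt
          · refine Or.inl ?_
            show x k * (x k * h) ∈ H
            rw [← mul_assoc]; exact mul_mem hsq hh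
          · refine Or.inr ⟨(x k)⁻¹ * x j * x k * h, mul_mem (hconj _ (hmem j hlt hj2)) hh, ?_⟩
            show x k * ((x k)⁻¹ * x j * x k * h) = x j * (x k * h)
            group
      · rw [Set.ncard_smul_set]
    have hsub : (Subgroup.closure (x '' {i | k ≤ i ∧ i < c.n}) : Set G) ⊆ S := fun g hg => by
      have h1 : g • S = S := hle hg
      have h2 : (1 : G) ∈ S := Or.inl H.one_mem
      have := Set.smul_mem_smul_set (a := g) h2
      rwa [h1, smul_eq_mul, mul_one] at this
    calc Nat.card (Subgroup.closure (x '' {i | k ≤ i ∧ i < c.n}))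
        = (Subgroup.closure (x '' {i | k ≤ i ∧ i < c.n}) : Set G).ncard := by
          rw [← Nat.card_coe_set_eq]; rfl
      _ ≤ S.ncard := Set.ncard_le_ncard hsub (Set.toFinite _)
      _ ≤ (H : Set G).ncard + (x k • (H : Set G)).ncard := Set.ncard_union_le _ _
      _ = 2 * (H : Set G).ncard := by rw [Set.ncard_smul_set]; ring
      _ ≤ 2 ^ (d + 1) := by
          rw [pow_succ']
          refine Nat.mul_le_mul_left 2 ?_
          rw [← Nat.card_coe_set_eq]; exact hHc

/-- The words of the normal forms. -/
def pcElems : List (List ℕ) := pcElems0 ++ (pcElems1 ++ (pcElems2 ++ pcElems3))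

/-- Their keys. -/
def pcCodes : List ℕ := pcCodes0 ++ (pcCodes1 ++ (pcCodes2 ++ pcCodes3))

/-- A product of chosen words. -/
def flat (ws : List (List ℕ)) (l : List ℕ) : List ℕ := l.flatMap fun j => ws.getD j []

theorem flat_cons (ws : List (List ℕ)) (j : ℕ) (l : List ℕ) :
    flat ws (j :: l) = ws.getD j [] ++ flat ws l := by simp [flat]

theorem wordVal_el (w : List ℕ) :
    wordVal (fun k => el (pcWords.getD k [])) w = el (flat pcWords w) := by
  induction w with
  | nil => rfl
  | cons j w ih => rw [Cfsg.Lib.Schur.wordVal_cons, ih, flat_cons, el_append]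

/-- Increasing lists. -/
def increasing : List ℕ → Bool
  | [] => true
  | [_] => true
  | a :: b :: l => Nat.blt a b && increasing (b :: l)

theorem increasing_nodup : ∀ l : List ℕ, increasing l = true → l.Pairwise (· < ·) := by
  intro l
  induction l with
  | nil => simp
  | cons a l ih =>
    intro h
    cases l with
    | nil => simp
    | cons b l =>
      simp only [increasing, Bool.and_eq_true, Nat.blt, Nat.ble_eq] at h
      have h2 := ih h.2
      refine List.pairwise_cons.2 ⟨fun q hq => ?_, h2⟩
      rcases List.mem_cons.1 hq with rfl | hq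
      · exact h.1
      · exact lt_trans h.1 ((List.pairwise_cons.1 h2).1 q hq)

theorem pc_ok : sp6Pc.ok = true := by decide +kernel

theorem elems_ok : pcElems.map (fun l => key (flat pcWords l)) = pcCodes ∧ increasing pcCodes = true ∧
    pcElems.length = 1024 ∧ (pcElems.all fun l => l.all fun j => Nat.blt j 10) = true ∧ sp6Pc.n = 10 := by
  decide +kernel

/-- A representative involution. -/
def repWord (b : Bool) : List ℕ := bif b then rep1 else rep0

theorem two_facts : (List.range 10).all (fun j => (List.range 10).all fun i =>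
      Nat.blt j i || (sp6Pc.shapeOK j i &&
        key (flat pcWords [j, i]) == key (flat pcWords (sp6Pc.tail j i)))) = true ∧
    ([false, true].all fun b => key (repWord b ++ repWord b) == key []) = true ∧
    sqConj.length = sp6Pc.squares.length ∧
    ((sp6Pc.squares.zip sqConj).all fun p =>
      key (flat pcWords p.1.1 ++ p.2) == key (p.2 ++ repWord p.1.2)) = true ∧
    sp6Pc.fuse = [] := by
  decide +kernel

theorem three_facts :
    (let a := threeA; let t := threeT; let n := threeN; let b := t ++ a ++ t ++ t; let d := b ++ a ++ a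
     key (a ++ a ++ a) == key [] && key (t ++ t ++ t) == key [] && key (a ++ b) == key (b ++ a) &&
       key (n ++ a) == key (a ++ a ++ n) && key (n ++ b) == key (b ++ n) &&
       (List.range 3).all fun i => (List.range 3).all fun j => (i == 0 && j == 0) ||
         !(key ((List.replicate i d).flatten ++ (List.replicate j (t ++ d ++ t ++ t)).flatten) == key [])) = true ∧
    threeElems.map (fun l => key (flat [threeA, threeT] l)) = threeCodes ∧ threeCodes.Nodup ∧
    threeElems.length = 81 ∧ threeElems.head? = some [] ∧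
    (threeElems.all fun l => l.all fun j => Nat.blt j 2) = true ∧
    ([0, 1].all fun j => threeElems.all fun l => threeCodes.contains (key (flat [threeA, threeT] (j :: l)))) = true := by
  decide +kernel

theorem factorization_facts : (2903040 : ℕ).factorization 2 = 10 ∧ (2903040 : ℕ).factorization 3 = 4 := by
  have key : ∀ p k : ℕ, p.Prime → p ^ k ∣ 2903040 → ¬ p ^ (k + 1) ∣ 2903040 →
      (2903040 : ℕ).factorization p = k := fun p k hp h1 h2 => by
    have a := (hp.pow_dvd_iff_le_factorization (by norm_num : (2903040 : ℕ) ≠ 0)).mp h1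
    have b : ¬ k + 1 ≤ (2903040 : ℕ).factorization p :=
      fun h => h2 ((hp.pow_dvd_iff_le_factorization (by norm_num)).mpr h)
    omega
  exact ⟨key 2 10 Nat.prime_two (by norm_num) (by norm_num), key 3 4 Nat.prime_three (by norm_num) (by norm_num)⟩

theorem card_pc : Nat.card (Subgroup.closure ((fun k => el (pcWords.getD k [])) '' {i | i < sp6Pc.n})) = 2 ^ 10 := by
  obtain ⟨hmap, hinc, hlen, hlt, hn⟩ := elems_ok
  obtain ⟨hrules, -⟩ := two_facts
  simp only [List.all_eq_true, Bool.and_eq_true, Bool.or_eq_true, beq_iff_eq, Nat.blt, Nat.ble_eq,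
    List.mem_range] at hrules hlt
  refine le_antisymm ?_ ?_
  · have hset : {i | i < sp6Pc.n} = {i | 0 ≤ i ∧ i < sp6Pc.n} := by ext i; simp
    rw [hset]
    refine card_closure_le sp6Pc _ (fun j hj i hi => ?_) (fun j hj i hi => ?_) 10 0 (by rw [hn])
    · exact ((hrules j (hn ▸ hj) i (by omega)).resolve_left (by omega)).1
    · rw [wordVal_el, ← el_append, el_eq_iff, ← ((hrules j (hn ▸ hj) i (by omega)).resolve_left (by omega)).2]
      simp [flat]
  · classical
    have hnd : (pcElems.map fun l => el (flat pcWords l)).Nodup := by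
      have h1 : (pcElems.map fun l => key (flat pcWords l)).Nodup := by
        rw [hmap]; exact (increasing_nodup _ hinc).imp fun h => ne_of_lt h
      rw [List.nodup_map_iff_inj_on h1.of_map]
      intro a ha b hb e
      exact List.inj_on_of_nodup_map h1 ha hb (el_eq_iff.1 e)
    have hc := List.toFinset_card_of_nodup hnd
    rw [List.length_map, hlen] at hc
    refine le_trans ?_ (le_of_eq (Nat.card_coe_set_eq _).symm)
    rw [show (2 : ℕ) ^ 10 = 1024 by norm_num, ← hc, ← Set.ncard_coe_finset]
    refine Set.ncard_le_ncard ?_ (Set.toFinite _)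
    intro g hg
    simp only [Finset.mem_coe, List.mem_toFinset, List.mem_map] at hg
    obtain ⟨l, hl, rfl⟩ := hg
    rw [← wordVal_el]
    refine Subgroup.list_prod_mem _ fun z hz => ?_
    obtain ⟨j, hj, rfl⟩ := List.mem_map.1 hz
    exact Subgroup.subset_closure ⟨j, hn.symm ▸ hlt l hl j hj, rfl⟩

theorem two_not_dvd_ker {Γ : Type u} [Group Γ] [Finite Γ] {σ : Γ →* cover} (hσ : Cfsg.IsStemExtension σ) :
    ¬ 2 ∣ Nat.card σ.ker := by
  obtain ⟨hrules, hrep, hlen, hsq, hfus⟩ := two_facts
  have hn := elems_ok.2.2.2.2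
  simp only [List.all_eq_true, Bool.and_eq_true, Bool.or_eq_true, beq_iff_eq, Nat.blt, Nat.ble_eq,
    List.mem_range] at hrules hrep hsq
  refine sp6Pc.two_not_dvd pc_ok hσ (fun k => el (pcWords.getD k [])) (fun b => el (repWord b))
    (fun b => ?_) ?_ ?_ ?_ (by rw [hfus]; simp) (by rw [card_pc, card_cover, factorization_facts.1])
    (by rw [card_pc, hn])
  · rw [← el_append, ← el_nil, el_eq_iff]
    exact hrep b (by cases b <;> simp)
  · intro j hj i hi
    rw [wordVal_el, ← el_append, el_eq_iff, ← ((hrules j (hn ▸ hj) i (by omega)).resolve_left (by omega)).2]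
    simp [flat]
  · intro s hs
    obtain ⟨k, hk, rfl⟩ := List.getElem_of_mem hs
    have hk' : k < sqConj.length := hlen ▸ hk
    refine ⟨el sqConj[k], ?_⟩
    have h := hsq (sp6Pc.squares[k], sqConj[k])
      (List.mem_iff_getElem.2 ⟨k, by rw [List.length_zip]; omega, List.getElem_zip⟩)
    rw [wordVal_el, eq_mul_inv_iff_mul_eq, ← el_append, ← el_append, el_eq_iff]
    exact h
  · rw [hfus]; simp

theorem card_three : Nat.card (Subgroup.closure ({el threeA, el threeT} : Set cover)) = 81 := by
  classical
  obtain ⟨-, hmap, hnd, hlen, hhead, hlt, hcl⟩ := three_facts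
  simp only [List.all_eq_true, Nat.blt, Nat.ble_eq, List.contains_iff_mem] at hlt hcl
  set ws : List (List ℕ) := [threeA, threeT] with hws
  set H := Subgroup.closure ({el threeA, el threeT} : Set cover) with hH
  let S : Set cover := {g | ∃ l ∈ threeElems, g = el (flat ws l)}
  have hgen : ({el threeA, el threeT} : Set cover) = (fun j => el (ws.getD j [])) '' {j | j < 2} := by
    ext g
    simp only [Set.mem_insert_iff, Set.mem_singleton_iff, Set.mem_image, Set.mem_setOf_eq]
    constructor
    · rintro (rfl | rfl)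
      exacts [⟨0, by norm_num, rfl⟩, ⟨1, by norm_num, rfl⟩]
    · rintro ⟨j, hj, rfl⟩
      interval_cases j <;> simp [hws]
  have hle : H ≤ MulAction.stabilizer cover S := by
    rw [hH, hgen, Subgroup.closure_le]
    rintro _ ⟨j, hj, rfl⟩
    refine MulAction.mem_stabilizer_iff.2 (Set.eq_of_subset_of_ncard_le ?_ ?_ (Set.toFinite _))
    · rintro _ ⟨_, ⟨l, hl, rfl⟩, rfl⟩
      have hj' : j ∈ [0, 1] := by simp only [Set.mem_setOf_eq] at hj; simp; omega
      have := hcl j hj' l hl
      rw [← hmap, List.mem_map] at this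
      obtain ⟨l', hl', e⟩ := this
      refine ⟨l', hl', ?_⟩
      show el (ws.getD j []) * el (flat ws l) = el (flat ws l')
      rw [← el_append, ← flat_cons, el_eq_iff, e]
    · rw [Set.ncard_smul_set]
  have hsub : (H : Set cover) = S := by
    refine Set.Subset.antisymm (fun g hg => ?_) ?_
    · have h1 : g • S = S := hle hg
      have h2 : (1 : cover) ∈ S := ⟨[], List.mem_of_mem_head? hhead, by simp [flat]⟩
      have := Set.smul_mem_smul_set (a := g) h2
      rwa [h1, smul_eq_mul, mul_one] at this
    · rintro _ ⟨l, hl, rfl⟩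
      have h1 := hlt l hl
      clear hl
      induction l with
      | nil => simp [flat]
      | cons j l ih =>
        rw [flat_cons, el_append]
        refine mul_mem ?_ (ih fun i hi => h1 i (List.mem_cons_of_mem _ hi))
        rw [hH, hgen]
        exact Subgroup.subset_closure ⟨j, h1 j List.mem_cons_self, rfl⟩
  rw [← SetLike.coe_sort_coe, Nat.card_coe_set_eq, hsub]
  have hnd' : (threeElems.map fun l => el (flat ws l)).Nodup := by
    rw [← hmap] at hnd
    rw [List.nodup_map_iff_inj_on hnd.of_map]
    intro a ha b hb e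
    exact List.inj_on_of_nodup_map hnd ha hb (el_eq_iff.1 e)
  have e : S = ((threeElems.map fun l => el (flat ws l)).toFinset : Set cover) := by
    ext g; simp [S, eq_comm]
  rw [e, Set.ncard_coe_finset, List.toFinset_card_of_nodup hnd', List.length_map, hlen]

theorem el_flatten_replicate (i : ℕ) (w : List ℕ) : el (List.replicate i w).flatten = el w ^ i := by
  induction i with
  | zero => simp
  | succ i ih => rw [List.replicate_succ, List.flatten_cons, el_append, ih, pow_succ']

theorem cover_ker_eq_bot {Γ : Type u} [Group Γ] [Finite Γ] {σ : Γ →* cover} (hσ : Cfsg.IsStemExtension σ) :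
    σ.ker = ⊥ := by
  refine Cfsg.Lib.Schur.ker_eq_bot_of_sylow hσ fun p hp => ?_
  haveI := hp
  by_cases h2 : p = 2
  · subst h2
    refine ⟨default, fun z hz hzS => ?_⟩
    by_contra hz1
    have hne' := two_not_dvd_ker hσ
    have hzp : IsPGroup 2 (Subgroup.zpowers z) :=
      (default : Sylow 2 Γ).2.to_le (Subgroup.zpowers_le.mpr (Subgroup.commutator_le_self _ hzS))
    obtain ⟨k, hk⟩ := hzp.exists_card_eq
    rw [Nat.card_zpowers] at hk
    have hd2 : orderOf z ∣ Nat.card σ.ker := by
      rw [← Nat.card_zpowers]; exact Subgroup.card_dvd_of_le (Subgroup.zpowers_le.mpr hz)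
    rcases k with _ | k
    · exact hz1 (orderOf_eq_one_iff.mp hk)
    · exact hne' (dvd_trans (by rw [hk]; exact dvd_pow_self 2 (Nat.succ_ne_zero k)) hd2)
  by_cases h3 : p = 3
  · subst h3
    have h := three_facts.1
    simp only [Bool.and_eq_true, beq_iff_eq, List.all_eq_true, Bool.or_eq_true, Bool.not_eq_true',
      beq_eq_false_iff_ne, ne_eq, List.mem_range, ← el_eq_iff, el_append, el_nil, el_flatten_replicate] at h
    obtain ⟨⟨⟨⟨⟨ea, et⟩, eab⟩, ena⟩, enb⟩, hind⟩ := h
    set A := el threeA
    set T := el threeT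
    set N := el threeN
    have hti : T⁻¹ = T * T := inv_eq_of_mul_eq_one_right (by rw [← mul_assoc]; exact et)
    have hai : A⁻¹ = A * A := inv_eq_of_mul_eq_one_right (by rw [← mul_assoc]; exact ea)
    have eB : T * A * T⁻¹ = T * A * T * T := by rw [hti, ← mul_assoc]
    refine Cfsg.Lib.Schur.exists_sylow_wreath_three hσ A T N ?_ (by simpa [pow_succ] using ea)
      (by simpa [pow_succ] using et) (by rw [eB]; exact eab) (by rw [mul_inv_eq_iff_eq_mul, hai]; exact ena)
      (by rw [eB, mul_inv_eq_iff_eq_mul]; exact enb) (fun i hi j hj he => ?_)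
    · rw [card_three, card_cover, factorization_facts.2]; norm_num
    · have e1 : T * A * T⁻¹ * A⁻¹ = T * A * T * T * A * A := by rw [eB, hai, ← mul_assoc]
      have e2 : T * (T * A * T⁻¹ * A⁻¹) * T⁻¹ = T * (T * A * T * T * A * A) * T * T := by
        rw [e1, hti, ← mul_assoc]
      rw [e2, e1] at he
      exact (hind i hi j hj).resolve_right (fun h => h he)
  refine Cfsg.Lib.Schur.exists_sylow_cyclic hσ ?_
  rw [card_cover]
  intro hd
  have hp' := hp.out
  have hdp : p ∣ 2 ^ 10 * 3 ^ 4 * 5 * 7 := by
    norm_num; exact dvd_trans (dvd_pow_self p two_ne_zero) hd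
  have hone : ∀ {q : ℕ}, q.Prime → p ∣ q → p = q := fun hq h => (Nat.prime_dvd_prime_iff_eq hp' hq).mp h
  rcases (Nat.Prime.dvd_mul hp').mp hdp with h | h
  · rcases (Nat.Prime.dvd_mul hp').mp h with h | h
    · rcases (Nat.Prime.dvd_mul hp').mp h with h | h
      · exact h2 (hone Nat.prime_two (hp'.dvd_of_dvd_pow h))
      · exact h3 (hone Nat.prime_three (hp'.dvd_of_dvd_pow h))
    · have := hone (by norm_num) h
      subst this
      norm_num at hd
  · have := hone (by norm_num) h
    subst this
    norm_num at hd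

/-- The map of matrix groups along an isomorphism of fields. -/
def mapSp {K L : Type*} [Field K] [Field L] (e : K ≃+* L) :
    Matrix.symplecticGroup (Fin 3) K →* Matrix.symplecticGroup (Fin 3) L where
  toFun A := ⟨(A : Matrix _ _ K).map e, by
    have h := SetLike.coe_mem A
    rw [SymplecticGroup.mem_iff] at h ⊢
    have hJ : (Matrix.J (Fin 3) K).map e = Matrix.J (Fin 3) L := by
      ext i j; rcases i with i | i <;> rcases j with j | j <;>
        simp [Matrix.J, Matrix.fromBlocks, Matrix.one_apply, apply_ite e]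
    have := congrArg (fun M => M.map e) h
    simp only [Matrix.map_mul, Matrix.transpose_map] at this
    rwa [hJ] at this⟩
  map_one' := Subtype.ext (Matrix.map_one e (map_zero e) (map_one e))
  map_mul' A B := Subtype.ext (Matrix.map_mul (f := e.toRingHom))

theorem mapSp_bijective {K L : Type*} [Field K] [Field L] (e : K ≃+* L) : Function.Bijective (mapSp e) := by
  refine ⟨fun A B h => ?_, fun A => ⟨mapSp e.symm A, ?_⟩⟩
  · refine Subtype.ext (Matrix.ext fun i j => e.injective ?_)
    exact congrFun (congrFun (congrArg Subtype.val h) i) j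
  · refine Subtype.ext (Matrix.ext fun i j => ?_)
    exact e.apply_symm_apply _

theorem multiplier_PSp {F : Type u} [Field F] [Fintype F] (hF : Fintype.card F = 2) :
    Cfsg.HasCyclicSchurMultiplier (Cfsg.PSp 3 F) 2 := by
  have hz : Subgroup.center (Matrix.symplecticGroup (Fin 3) F) = ⊥ := by
    refine Subgroup.eq_bot_of_card_eq _ ?_
    rw [Cfsg.Lib.Classical.card_center_symplecticGroup (by norm_num), Nat.card_eq_fintype_card (α := F), hF]
    rfl
  have e : ZMod 2 ≃+* F := ZMod.ringEquivOfPrime F Nat.prime_two hF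
  let q : Sp →* Cfsg.PSp 3 F :=
    (QuotientGroup.mk' (Subgroup.center (Matrix.symplecticGroup (Fin 3) F))).comp (mapSp e)
  have hq : Function.Bijective q := by
    refine ⟨?_, (QuotientGroup.mk'_surjective _).comp (mapSp_bijective e).2⟩
    intro a b h
    refine (mapSp_bijective e).1 ?_
    have h' : (mapSp e a)⁻¹ * mapSp e b ∈ Subgroup.center (Matrix.symplecticGroup (Fin 3) F) :=
      QuotientGroup.eq.1 h
    rw [hz, Subgroup.mem_bot] at h'
    exact inv_mul_eq_one.1 h'
  haveI : Finite cover := Nat.finite_of_card_ne_zero (by rw [card_cover]; norm_num)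
  haveI : Finite (Cfsg.PSp 3 F) := Finite.of_surjective q hq.2
  let π : ULift.{u} cover →* Cfsg.PSp 3 F := (q.comp proj).comp MulEquiv.ulift.toMonoidHom
  have hker : π.ker = proj.ker.comap MulEquiv.ulift.toMonoidHom := by
    ext g
    simp only [MonoidHom.mem_ker, Subgroup.mem_comap, π, MonoidHom.comp_apply]
    exact map_eq_one_iff q hq.1
  have hperf : commutator (ULift.{u} cover) = ⊤ := by
    have h := congrArg (Subgroup.map (MulEquiv.ulift.{0, u} (α := cover)).symm.toMonoidHom) cover_perfect
    rwa [commutator_def, Subgroup.map_commutator, Subgroup.map_top_of_surjective _ (MulEquiv.surjective _),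
      ← commutator_def] at h
  have hcard : Nat.card π.ker = 2 := by
    rw [hker]
    exact (Nat.card_congr (Equiv.subtypeEquiv (q := fun x : cover => x ∈ proj.ker) Equiv.ulift
      fun _ => Iff.rfl)).trans card_ker
  refine Cfsg.Lib.Schur.hasCyclicSchurMultiplier_of_cover π ⟨?_, ?_, by rw [hperf]; exact le_top⟩ hperf ?_
    (isCyclic_of_prime_card (hp := ⟨Nat.prime_two⟩) hcard) hcard
  · exact (hq.2.comp proj_surjective).comp (MulEquiv.surjective _)
  · intro g hg
    rw [hker, Subgroup.mem_comap] at hg
    refine Subgroup.mem_center_iff.2 fun y => MulEquiv.ulift.injective ?_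
    rw [map_mul, map_mul]
    exact Subgroup.mem_center_iff.1 (ker_central hg) _
  · intro Δ _ _ τ hτ
    set ul : ULift.{u} cover ≃* cover := MulEquiv.ulift
    have hσ : Cfsg.IsStemExtension (ul.toMonoidHom.comp τ) := by
      have hk : (ul.toMonoidHom.comp τ).ker = τ.ker := by
        ext d; simp
      exact ⟨ul.surjective.comp hτ.1, hk ▸ hτ.2.1, hk ▸ hτ.2.2⟩
    have h := cover_ker_eq_bot hσ
    rw [eq_bot_iff] at h ⊢
    intro d hd
    exact h (show ul (τ d) = 1 by rw [MonoidHom.mem_ker.1 hd, map_one])

end Cfsg.Lib.SpSixTwo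

end
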